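/-
The norm one vectors of the tetrads, found by a computer search.
-/
import Cfsg.Agent.Lib.Spor.TC.Trie

namespace CfsgLib.Spor.Fi24Four.Data

open CfsgLib.Spor.TC

set_option linter.all false

/-- The codes of the norm one vectors. -/
def codeT : Tbl :=
  .bin (.bin (.tip 0x80010901cc0101010d01cd0100010c0073010400740103007000710161016001680171000901d401dd007b00f30084007801d1008101ce0003016501620001)
    (.tip 0x5e0068006a01b20116005f0061006b0115011300620112014e00320157014f003500290031017c0158002c0034014b0028017b0148002b014c0149013501a1)) (.bin (.tip 0x1aa01a4013e0138009c0093009f01ad0141009601c201b9011d00510126011a01b3012301b6018c01830153001b015c0150017d0159018000760077007f010a)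
    (.tip 0x199012e019a019c012d0131019d008b0130008e008c008f009b009a0092013c0091013d01a9013301a8013401a0019f011901220118006701b10121))

end CfsgLib.Spor.Fi24Four.Data
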